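import Groth.Agent.GenULoc.Generic
import Mathlib

/-!
Generic universal local 0-acyclicity of morphisms of finite type.
-/

set_option autoImplicit false
set_option backward.isDefEq.respectTransparency false
set_option backward.isDefEq.respectTransparency.types false
set_option maxHeartbeats 1000000
set_option linter.style.haveILetI false

universe u

open CategoryTheory CategoryTheory.Limits AlgebraicGeometry

noncomputable section

namespace Groth.Agent.GenULoc

/-- strict localisations at points of an open subscheme -/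
theorem exists_pull_SH {X' X : Scheme.{u}} (e : X' ⟶ X) [IsOpenImmersion e] {x' : X'} (Q : EtBCQ.SH X (e x')) :
    ∃ (_ : Algebra (X'.presheaf.stalk x') Q.R) (_ : IsLocalHom (algebraMap (X'.presheaf.stalk x') Q.R))
      (_ : _root_.Hensel.IsStrictHenselization (X'.presheaf.stalk x') Q.R),
      Hens2.specOf X' x' Q.R ≫ e = Q.spec := by
  let s := e.stalkMap x'
  letI algA : Algebra (X'.presheaf.stalk x') (X.presheaf.stalk (e x')) := (inv s).hom.toAlgebra
  letI algR : Algebra (X'.presheaf.stalk x') Q.R :=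
    ((algebraMap (X.presheaf.stalk (e x')) Q.R).comp (inv s).hom).toAlgebra
  haveI : IsScalarTower (X'.presheaf.stalk x') (X.presheaf.stalk (e x')) Q.R := IsScalarTower.of_algebraMap_eq' rfl
  haveI : IsLocalHom (algebraMap (X'.presheaf.stalk x') (X.presheaf.stalk (e x'))) :=
    inferInstanceAs (IsLocalHom (inv s).hom)
  haveI hl : IsLocalHom (algebraMap (X'.presheaf.stalk x') Q.R) :=
    RingHom.isLocalHom_comp (algebraMap (X.presheaf.stalk (e x')) Q.R) (inv s).hom
  haveI : Algebra.Etale (X'.presheaf.stalk x') (X.presheaf.stalk (e x')) :=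
    Algebra.Etale.of_equiv (AlgEquiv.ofBijective (Algebra.ofId _ _)
      (ConcreteCategory.bijective_of_isIso (inv s)))
  refine ⟨algR, hl, WeakEt.isStrictHenselization_of_weaklyEtale (X'.presheaf.stalk x')
    (X.presheaf.stalk (e x')) Q.R, ?_⟩
  show (Spec.map (CommRingCat.ofHom ((algebraMap (X.presheaf.stalk (e x')) Q.R).comp (inv s).hom)) ≫
    X'.fromSpecStalk x') ≫ e = _
  rw [Category.assoc, ← Scheme.SpecMap_stalkMap_fromSpecStalk, ← Category.assoc, ← Spec.map_comp]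
  rw [show e.stalkMap x' ≫ CommRingCat.ofHom ((algebraMap (X.presheaf.stalk (e x')) Q.R).comp (inv s).hom) =
    (s ≫ inv s) ≫ CommRingCat.ofHom (algebraMap (X.presheaf.stalk (e x')) Q.R) from rfl, IsIso.hom_inv_id,
    Category.id_comp]

/-- properties of strict localisations are local on the source and base -/
theorem onStrict_of_cover {P : ∀ ⦃X' Y' : Scheme.{u}⦄, (X' ⟶ Y') → Prop} {X Y : Scheme.{u}} (g : X ⟶ Y)
    (H : ∀ x : X, ∃ W : Y.Opens, g x ∈ W ∧ EtAcyc.OnStrictLocalizations (g ∣_ W) P) :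
    EtAcyc.OnStrictLocalizations g P := by
  intro x RY RX _ _ _ _ _ _ _ _ _ _ _ _ hc
  obtain ⟨W, hW, h⟩ := H x
  let QY : EtBCQ.SH Y (g.base x) := { R := RY }
  let QX : EtBCQ.SH X x := { R := RX }
  have hf : Spec.map (CommRingCat.ofHom (algebraMap RY RX)) ≫ QY.spec = QX.spec ≫ g :=
    (EtBCQ.specOf_comp g x RY RX (algebraMap RY RX) hc).symm
  let x' : (g ⁻¹ᵁ W : Scheme.{u}) := ⟨x, hW⟩
  obtain ⟨aX, lX, sX, hX⟩ := exists_pull_SH (g ⁻¹ᵁ W).ι (x' := x') QX
  obtain ⟨aY, lY, sY, hY⟩ := exists_pull_SH W.ι (x' := (⟨g x, hW⟩ : (W : Scheme.{u}))) QY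
  let PX : EtBCQ.SH _ x' := { R := RX, alg := aX, lh := lX, sh := sX }
  let PY : EtBCQ.SH (W : Scheme.{u}) (⟨g x, hW⟩ : (W : Scheme.{u})) := { R := RY, alg := aY, lh := lY, sh := sY }
  refine EtAcycX.apply_onStrict' h (x := x') ?_ PY PX (algebraMap RY RX) ?_
  · apply W.ι.injective
    rw [← Scheme.Hom.comp_apply, morphismRestrict_ι, Scheme.Hom.comp_apply]
    rfl
  · rw [← cancel_mono W.ι]
    calc (_ ≫ PY.spec) ≫ W.ι = Spec.map (CommRingCat.ofHom (algebraMap RY RX)) ≫ QY.spec :=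
          (Category.assoc _ _ _).trans (congrArg (_ ≫ ·) hY)
      _ = QX.spec ≫ g := hf
      _ = PX.spec ≫ ((g ⁻¹ᵁ W).ι ≫ g) := (congrArg (· ≫ g) hX.symm).trans (Category.assoc _ _ _)
      _ = PX.spec ≫ ((g ∣_ W) ≫ W.ι) := congrArg (_ ≫ ·) (morphismRestrict_ι g W).symm
      _ = _ := (Category.assoc _ _ _).symm

/-- universal local 0-acyclicity is stable under base change -/
theorem isULocZeroAcyclic_of_isPullback {X Y X' Y' : Scheme.{u}} {f : X ⟶ Y} {f' : X' ⟶ Y'} {g' : X' ⟶ X}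
    {g : Y' ⟶ Y} (h : IsPullback g' f' f g) (hf : EtAcyc.IsULocZeroAcyclic f) : EtAcyc.IsULocZeroAcyclic f' :=
  fun _ _ g₁ _ _ h₁ => hf g₁ _ _ (h₁.paste_horiz h)

/-- base changes into a good open -/
theorem uloc_of_range {X S Z Z' : Scheme.{u}} {a : X ⟶ S} {W : S.Opens} (hW : IsGood a W) {c : Z ⟶ S}
    (hc : Set.range c ⊆ (W : Set S)) {p : Z' ⟶ Z} {q : Z' ⟶ X} (h : IsPullback q p a c) :
    EtAcyc.IsULocZeroAcyclic p := by
  have hl : c = IsOpenImmersion.lift W.ι c (by rw [Scheme.Opens.range_ι]; exact hc) ≫ W.ι :=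
    (IsOpenImmersion.lift_fac _ _ _).symm
  rw [hl] at h
  exact isULocZeroAcyclic_of_isPullback (IsPullback.of_right' h (isPullback_morphismRestrict a W).flip) hW

/-- goodness of unions -/
theorem isGood_iSup {X S : Scheme.{u}} (a : X ⟶ S) {ι : Type*} (W : ι → S.Opens) (h : ∀ i, IsGood a (W i)) :
    IsGood a (⨆ i, W i) := by
  intro X₁ Y₁ g₁ b' b hb
  refine onStrict_of_cover g₁ fun x => ?_
  obtain ⟨i, hi⟩ := TopologicalSpace.Opens.mem_iSup.mp ((b (g₁ x)).2)
  let U := ⨆ i, W i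
  refine ⟨b ⁻¹ᵁ (U.ι ⁻¹ᵁ W i), hi, ?_⟩
  let Y₂ := b ⁻¹ᵁ (U.ι ⁻¹ᵁ W i)
  have hbig := (isPullback_morphismRestrict g₁ Y₂).flip.paste_horiz
    (hb.paste_horiz (isPullback_morphismRestrict a U).flip)
  have h2 := uloc_of_range (h i) (c := Y₂.ι ≫ b ≫ U.ι) (by
    rintro _ ⟨z, rfl⟩
    simp only [Scheme.Hom.comp_apply]
    exact z.2) hbig
  exact h2 (g₁ ∣_ Y₂) (𝟙 _) (𝟙 _) (IsPullback.of_horiz_isIso ⟨by simp⟩)

/-- **Generic universal local 0-acyclicity** -/
theorem exists_dense_good {X S : Scheme.{u}} (a : X ⟶ S) [IsNoetherian S] [LocallyOfFiniteType a] [QuasiCompact a] :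
    ∃ U : S.Opens, Dense (U : Set S) ∧ IsGood a U := by
  let T := {W : S.Opens // IsGood a W}
  refine ⟨⨆ W : T, W.1, ?_, isGood_iSup a (fun W : T => W.1) fun W => W.2⟩
  rw [dense_iff_inter_open]
  intro O hO hne
  let Os : S.Opens := ⟨O, hO⟩
  haveI : Nonempty Os.toScheme := hne.to_subtype
  obtain ⟨W₀, hW₀, hirr⟩ := GrpField.exists_irreducible_open Os.toScheme
  obtain ⟨z, hz⟩ := hirr.nonempty
  obtain ⟨V₀, hV₀, hzV, hVW⟩ := exists_isAffineOpen_mem_and_subset (X := Os.toScheme) (x := z) (U := ⟨W₀, hW₀⟩) hz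
  let V : S.Opens := Os.ι ''ᵁ V₀
  have hV : IsAffineOpen V := hV₀.image_of_isOpenImmersion Os.ι
  have hVirr : IsIrreducible (V : Set S) := by
    refine IsIrreducible.image ⟨⟨z, hzV⟩, hirr.2.open_subset V₀.2 hVW⟩ _ Os.ι.continuous.continuousOn
  haveI : IsAffine V.toScheme := hV
  haveI : IrreducibleSpace V.toScheme := by
    haveI : PreirreducibleSpace V.toScheme := Subtype.preirreducibleSpace hVirr.2
    haveI : Nonempty V.toScheme := hVirr.1.to_subtype
    exact ⟨‹_›⟩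
  -- the reduction of V
  let A₀ : Type u := Γ(V.toScheme, ⊤)
  haveI : IsNoetherianRing A₀ := IsLocallyNoetherian.component_noetherian ⟨⊤, isAffineOpen_top _⟩
  let A : Type u := A₀ ⧸ nilradical A₀
  haveI : (nilradical A₀).IsPrime := by
    haveI : IrreducibleSpace (PrimeSpectrum A₀) := by
      haveI : IrreducibleSpace ↥(Spec (CommRingCat.of A₀)) :=
        V.toScheme.isoSpec.hom.homeomorph.irreducibleSpace_iff.mp inferInstance
      exact this
    exact (PrimeSpectrum.irreducibleSpace_iff_isPrime_nilradical (R := A₀)).mp inferInstance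
  let r : Spec (CommRingCat.of A) ⟶ V.toScheme :=
    Spec.map (CommRingCat.ofHom (Ideal.Quotient.mk (nilradical A₀))) ≫ V.toScheme.isoSpec.inv
  haveI : IsClosedImmersion (Spec.map (CommRingCat.ofHom (Ideal.Quotient.mk (nilradical A₀)))) :=
    IsClosedImmersion.spec_of_surjective _ Ideal.Quotient.mk_surjective
  haveI : Surjective (Spec.map (CommRingCat.ofHom (Ideal.Quotient.mk (nilradical A₀)))) := ⟨fun p => by
    have : p ∈ Set.range (PrimeSpectrum.comap (Ideal.Quotient.mk (nilradical A₀))) := by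
      rw [_root_.range_comap_of_surjective A (Ideal.Quotient.mk (nilradical A₀)) Ideal.Quotient.mk_surjective, Ideal.mk_ker,
        PrimeSpectrum.mem_zeroLocus]
      exact nilradical_le_prime p.asIdeal
    exact this⟩
  haveI : Surjective r := inferInstance
  haveI : IsClosedImmersion r := inferInstance
  haveI : UniversallyInjective r := inferInstance
  let a₁ := pullback.snd (a ∣_ V) r
  obtain ⟨U', hU'ne, hU'⟩ := exists_good_affine A a₁
  have hcl : IsClosed (r '' (U' : Set (Spec (CommRingCat.of A)))ᶜ) := r.isClosedMap _ U'.2.isClosed_compl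
  let U₁ : V.toScheme.Opens := ⟨_, hcl.isOpen_compl⟩
  have hrU : r ⁻¹ᵁ U₁ = U' := by
    ext y
    change r y ∉ r '' (U' : Set (Spec (CommRingCat.of A)))ᶜ ↔ y ∈ U'
    rw [r.injective.mem_set_image, Set.mem_compl_iff, not_not]
    rfl
  have hgood1 : IsGood (a ∣_ V) U₁ := by
    let p := pullback.fst (a ∣_ V) r
    haveI : IsIntegralHom p := MorphismProperty.pullback_fst _ _ inferInstance
    haveI : UniversallyInjective p := MorphismProperty.pullback_fst _ _ ‹_›
    haveI : Surjective p := MorphismProperty.pullback_fst _ _ ‹_›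
    have hop : a₁ ⁻¹ᵁ (r ⁻¹ᵁ U₁) = p ⁻¹ᵁ ((a ∣_ V) ⁻¹ᵁ U₁) := by
      rw [← Scheme.Hom.comp_preimage, ← Scheme.Hom.comp_preimage, pullback.condition]
    let i := ((pullback (a ∣_ V) r).isoOfEq hop).hom ≫ p ∣_ ((a ∣_ V) ⁻¹ᵁ U₁)
    haveI : UniversallyInjective (p ∣_ ((a ∣_ V) ⁻¹ᵁ U₁)) := IsZariskiLocalAtTarget.restrict ‹_› _
    haveI : UniversallyInjective (r ∣_ U₁) := IsZariskiLocalAtTarget.restrict ‹_› _
    haveI : UniversallyInjective i := (MorphismProperty.cancel_left_of_respectsIso @UniversallyInjective _ _).mpr ‹_›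
    haveI : IsIntegralHom (p ∣_ ((a ∣_ V) ⁻¹ᵁ U₁)) := IsZariskiLocalAtTarget.restrict ‹_› _
    haveI : IsIntegralHom (r ∣_ U₁) := IsZariskiLocalAtTarget.restrict (inferInstanceAs (IsIntegralHom r)) _
    haveI : IsIntegralHom i := inferInstance
    haveI : Surjective (p ∣_ ((a ∣_ V) ⁻¹ᵁ U₁)) := IsZariskiLocalAtTarget.restrict ‹_› _
    haveI : Surjective (r ∣_ U₁) := IsZariskiLocalAtTarget.restrict ‹_› _
    haveI : Surjective i := inferInstance
    refine isULocZeroAcyclic_transfer (g' := a₁ ∣_ (r ⁻¹ᵁ U₁)) i (r ∣_ U₁) ?_ ?_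
    · rw [← cancel_mono U₁.ι]
      simp only [i, Category.assoc, morphismRestrict_ι, morphismRestrict_ι_assoc, Scheme.isoOfEq_hom_ι_assoc]
      exact congrArg (_ ≫ ·) pullback.condition
    · rw [hrU]; exact hU'
  let U₂ : S.Opens := V.ι ''ᵁ U₁
  have hgood2 : IsGood a U₂ := by
    have hr : Set.range U₂.ι ⊆ Set.range V.ι := by
      rw [Scheme.Opens.range_ι]
      rintro _ ⟨z, -, rfl⟩
      exact ⟨z, rfl⟩
    have hbig := (isPullback_morphismRestrict a U₂).flip
    rw [← IsOpenImmersion.lift_fac V.ι U₂.ι hr] at hbig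
    refine uloc_of_range hgood1 (c := IsOpenImmersion.lift V.ι U₂.ι hr) ?_
      (IsPullback.of_right' hbig (isPullback_morphismRestrict a V).flip)
    rintro _ ⟨z, rfl⟩
    obtain ⟨w, hw, hwz⟩ : z.1 ∈ V.ι '' (U₁ : Set V.toScheme) := z.2
    have e : V.ι (IsOpenImmersion.lift V.ι U₂.ι hr z) = z.1 := by
      rw [← Scheme.Hom.comp_apply, IsOpenImmersion.lift_fac]; rfl
    rwa [V.ι.injective (e.trans hwz.symm)]
  obtain ⟨y, hy⟩ := hU'ne
  have hy₁ : r y ∈ U₁ := by
    change y ∈ r ⁻¹ᵁ U₁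
    rwa [hrU]
  refine ⟨V.ι (r y), ?_, (le_iSup (fun W : T => W.1) ⟨U₂, hgood2⟩) ⟨r y, hy₁, rfl⟩⟩
  obtain ⟨o, -, ho⟩ : V.ι (r y) ∈ Os.ι '' (V₀ : Set Os.toScheme) := (r y).2
  rw [← ho]
  exact o.2

end Groth.Agent.GenULoc
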