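import Groth.Agent.EtShSep.ULoc
import Groth.Agent.Olivier.Main
import Groth.Agent.EtAcycX.ZCover
import Groth.Agent.WeakEt.Scheme
import Mathlib

/-!
Strict localisations along universal homeomorphisms, and transfer of universal local 0-acyclicity.
-/

set_option autoImplicit false
set_option backward.isDefEq.respectTransparency false
set_option backward.isDefEq.respectTransparency.types false
set_option maxHeartbeats 1000000
set_option linter.style.haveILetI false

universe u

open CategoryTheory CategoryTheory.Limits AlgebraicGeometry IsLocalRing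
open scoped TensorProduct

noncomputable section

namespace Groth.Agent.GenULoc

/-- strict localisations commute with integral universal homeomorphisms -/
theorem exists_strict_iso {S S' : Scheme.{u}} (v : S' ⟶ S) [IsIntegralHom v] [UniversallyInjective v] [Surjective v]
    {s' : S'} {s : S} (hs : v s' = s) (Q : EtBCQ.SH S s) (Q' : EtBCQ.SH S' s') :
    ∃ e : Spec (CommRingCat.of Q'.R) ≅ pullback v Q.spec, e.hom ≫ pullback.fst v Q.spec = Q'.spec := by
  subst hs
  let P := pullback v Q.spec
  let p : P ⟶ Spec (CommRingCat.of Q.R) := pullback.snd v Q.spec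
  haveI : IsIntegralHom p := MorphismProperty.pullback_snd _ _ ‹_›
  haveI : UniversallyInjective p := MorphismProperty.pullback_snd _ _ ‹_›
  haveI : Surjective p := MorphismProperty.pullback_snd _ _ ‹_›
  haveI : IsAffine P := isAffine_of_isAffineHom p
  obtain ⟨σ, hσ⟩ := Spec.map_surjective (P.isoSpec.inv ≫ p)
  let A : Type u := Γ(P, ⊤)
  letI : Algebra Q.R A := σ.hom.toAlgebra
  let w : Spec (CommRingCat.of A) ⟶ Spec (CommRingCat.of Q.R) := Spec.map (CommRingCat.ofHom (algebraMap Q.R A))
  have hw : w = P.isoSpec.inv ≫ p := hσ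
  haveI : IsIntegralHom w := by rw [hw]; infer_instance
  haveI : UniversallyInjective w := by
    rw [hw, MorphismProperty.cancel_left_of_respectsIso @UniversallyInjective]
    infer_instance
  haveI : Surjective w := by rw [hw]; infer_instance
  haveI : Algebra.IsIntegral Q.R A := by
    rw [← algebraMap_isIntegral_iff]
    exact IsIntegralHom.SpecMap_iff.mp (inferInstanceAs (IsIntegralHom w))
  obtain ⟨c, hc⟩ := w.surjective (closedPoint Q.R)
  haveI hl : IsLocalRing A := by
    refine IsLocalRing.of_unique_max_ideal ⟨c.asIdeal, ?_, fun M hM => ?_⟩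
    · refine Ideal.isMaximal_of_isIntegral_of_isMaximal_comap (R := Q.R) c.asIdeal ?_
      rw [show c.asIdeal.comap (algebraMap Q.R A) = maximalIdeal Q.R from congrArg PrimeSpectrum.asIdeal hc]
      infer_instance
    · have h1 : w ⟨M, hM.isPrime⟩ = w c := by
        rw [hc]
        exact PrimeSpectrum.ext (eq_maximalIdeal (Ideal.isMaximal_comap_of_isIntegral_of_isMaximal (R := Q.R) M))
      exact congrArg PrimeSpectrum.asIdeal (w.injective h1)
  haveI : HenselianLocalRing A := Hensel.henselianLocalRing_finite Q.R A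
  haveI hlA : IsLocalHom (algebraMap Q.R A) := by
    refine ((local_hom_TFAE (algebraMap Q.R A)).out 0 4).2 ?_
    exact eq_maximalIdeal (Ideal.isMaximal_comap_of_isIntegral_of_isMaximal (R := Q.R) (maximalIdeal A))
  haveI : IsSepClosed (ResidueField A) := by
    haveI : Algebra.IsIntegral Q.R (ResidueField A) :=
      Algebra.IsIntegral.of_surjective (IsScalarTower.toAlgHom Q.R A (ResidueField A)) residue_surjective
    haveI : Algebra.IsIntegral (ResidueField Q.R) (ResidueField A) := Algebra.IsIntegral.tower_top Q.R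
    haveI : Algebra.IsAlgebraic (ResidueField Q.R) (ResidueField A) := inferInstance
    exact Algebra.IsAlgebraic.isSepClosed (F := ResidueField Q.R)
  let a : Spec (CommRingCat.of A) ⟶ S' := P.isoSpec.inv ≫ pullback.fst v Q.spec
  have hv : a (closedPoint A) = s' := by
    apply v.injective
    have h1 : a ≫ v = w ≫ Q.spec := by rw [hw]; simp [a, p, pullback.condition, P]
    rw [← Scheme.Hom.comp_apply, h1, Scheme.Hom.comp_apply]
    refine Eq.trans (congrArg Q.spec ?_) Q.spec_closed
    exact IsLocalRing.comap_closedPoint (algebraMap Q.R A)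
  obtain ⟨ψ, hψl, hψ⟩ := EtBCQ.exists_strict_hom Q' a hv
  haveI : WeaklyEtale Q.spec := EtAcycX.weaklyEtale_specOf _ Q.R
  haveI : WeaklyEtale Q'.spec := EtAcycX.weaklyEtale_specOf _ Q'.R
  haveI : WeaklyEtale (Spec.map (CommRingCat.ofHom ψ) ≫ Q'.spec) := by rw [hψ]; infer_instance
  haveI : WeaklyEtale (Spec.map (CommRingCat.ofHom ψ)) := WeaklyEtale.of_comp _ Q'.spec
  letI : Algebra Q'.R A := ψ.toAlgebra
  haveI : Algebra.WeaklyEtale Q'.R A := (WeakEt.specMap_iff (CommRingCat.ofHom ψ)).1 inferInstance
  haveI : IsLocalHom (algebraMap Q'.R A) := hψl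
  haveI : IsIso (CommRingCat.ofHom ψ) :=
    (ConcreteCategory.isIso_iff_bijective _).mpr (Olivier.bijective_algebraMap (A := Q'.R) (B := A))
  refine ⟨(asIso (Spec.map (CommRingCat.ofHom ψ))).symm ≪≫ P.isoSpec.symm, ?_⟩
  change (inv (Spec.map (CommRingCat.ofHom ψ)) ≫ P.isoSpec.inv) ≫ pullback.fst v Q.spec = _
  rw [Category.assoc, IsIso.inv_comp_eq]
  exact hψ.symm

theorem closedPoint_of_isClosed {A : Type u} [CommRing A] [IsLocalRing A] {z : Spec (CommRingCat.of A)}
    (h : IsClosed ({z} : Set (Spec (CommRingCat.of A)))) : z = closedPoint A :=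
  ((IsLocalRing.specializes_closedPoint z).mem_closed h rfl : closedPoint A ∈ ({z} : Set _)).symm

/-- points of algebraically closed fields lift along surjective integral morphisms -/
theorem exists_geom_lift {A B : Scheme.{u}} (v : A ⟶ B) [IsIntegralHom v] [Surjective v] {Ω : Type u} [Field Ω]
    [IsAlgClosed Ω] (s : Spec (CommRingCat.of Ω) ⟶ B) : ∃ s' : Spec (CommRingCat.of Ω) ⟶ A, s' ≫ v = s := by
  let P := pullback v s
  let q : P ⟶ Spec (CommRingCat.of Ω) := pullback.snd v s
  haveI : IsIntegralHom q := MorphismProperty.pullback_snd _ _ ‹_›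
  haveI : Surjective q := MorphismProperty.pullback_snd _ _ ‹_›
  haveI : IsAffine P := isAffine_of_isAffineHom q
  obtain ⟨σ, hσ⟩ := Spec.map_surjective (P.isoSpec.inv ≫ q)
  let C : Type u := Γ(P, ⊤)
  letI : Algebra Ω C := σ.hom.toAlgebra
  haveI hwi : IsIntegralHom (Spec.map σ) := by rw [hσ]; infer_instance
  haveI : Algebra.IsIntegral Ω C := by
    rw [← algebraMap_isIntegral_iff]
    exact IsIntegralHom.SpecMap_iff.mp hwi
  obtain ⟨z, -⟩ := q.surjective default
  haveI : Nontrivial C := by
    have : Nonempty (PrimeSpectrum C) := ⟨P.isoSpec.hom z⟩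
    exact PrimeSpectrum.nonempty_iff_nontrivial.mp this
  obtain ⟨m, hm⟩ := Ideal.exists_maximal C
  letI : Field (C ⧸ m) := Ideal.Quotient.field m
  let e := AlgEquiv.ofBijective (Algebra.ofId Ω (C ⧸ m))
    (IsAlgClosed.algebraMap_bijective_of_isIntegral (k := Ω) (K := C ⧸ m))
  let π : C →ₐ[Ω] Ω := e.symm.toAlgHom.comp (Ideal.Quotient.mkₐ Ω m)
  have hπ : σ ≫ CommRingCat.ofHom π.toRingHom = 𝟙 _ := CommRingCat.hom_ext (RingHom.ext fun r => π.commutes r)
  refine ⟨Spec.map (CommRingCat.ofHom π.toRingHom) ≫ P.isoSpec.inv ≫ pullback.fst v s, ?_⟩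
  rw [Category.assoc, Category.assoc, pullback.condition, ← Category.assoc P.isoSpec.inv, ← hσ, ← Category.assoc,
    ← Spec.map_comp, hπ, Spec.map_id, Category.id_comp]

section Transfer

variable {X S X' S' : Scheme.{u}} {g : X ⟶ S} {g' : X' ⟶ S'}

/-- local 0-acyclicity descends along universal homeomorphisms of source and base -/
theorem isLocZeroAcyclic_transfer (i : X' ⟶ X) (v : S' ⟶ S) [IsIntegralHom i] [UniversallyInjective i] [Surjective i]
    [IsIntegralHom v] [UniversallyInjective v] [Surjective v] (w : i ≫ g = g' ≫ v)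
    (hg' : EtAcyc.IsULocZeroAcyclic g') : EtAcyc.IsLocZeroAcyclic g := by
  intro x RY RX _ _ _ _ _ _ _ _ _ _ _ _ hc
  let QY : EtBCQ.SH S (g.base x) := { R := RY }
  let QX : EtBCQ.SH X x := { R := RX }
  let f : Spec (CommRingCat.of RX) ⟶ Spec (CommRingCat.of RY) := Spec.map (CommRingCat.ofHom (algebraMap RY RX))
  have hf : f ≫ QY.spec = QX.spec ≫ g := (EtBCQ.specOf_comp g x RY RX (algebraMap RY RX) hc).symm
  obtain ⟨x', hx'⟩ := i.surjective x
  let y' := g' x'
  have hy' : v y' = g.base x := by
    rw [← hx', ← Scheme.Hom.comp_apply, ← w, Scheme.Hom.comp_apply]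
  let QX' := EtBCQ.mkSH X' x'
  let QY' := EtBCQ.mkSH S' y'
  obtain ⟨eX, heX⟩ := exists_strict_iso i hx' QX QX'
  obtain ⟨eY, heY⟩ := exists_strict_iso v hy' QY QY'
  let vX : Spec (CommRingCat.of QX'.R) ⟶ Spec (CommRingCat.of RX) := eX.hom ≫ pullback.snd i QX.spec
  let vY : Spec (CommRingCat.of QY'.R) ⟶ Spec (CommRingCat.of RY) := eY.hom ≫ pullback.snd v QY.spec
  have hvX : vX ≫ QX.spec = QX'.spec ≫ i := by
    rw [← heX, Category.assoc, Category.assoc, pullback.condition]
  let f' : Spec (CommRingCat.of QX'.R) ⟶ Spec (CommRingCat.of QY'.R) :=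
    pullback.lift (QX'.spec ≫ g') (vX ≫ f) (by
      calc (QX'.spec ≫ g') ≫ v = QX'.spec ≫ (i ≫ g) := (Category.assoc _ _ _).trans (congrArg (_ ≫ ·) w.symm)
        _ = (vX ≫ QX.spec) ≫ g := (Category.assoc _ _ _).symm.trans (congrArg (· ≫ g) hvX.symm)
        _ = vX ≫ (f ≫ QY.spec) := (Category.assoc _ _ _).trans (congrArg (vX ≫ ·) hf.symm)
        _ = (vX ≫ f) ≫ QY.spec := (Category.assoc _ _ _).symm) ≫ eY.inv
  have hf'1 : f' ≫ QY'.spec = QX'.spec ≫ g' := by
    rw [← heY, Category.assoc, Iso.inv_hom_id_assoc, pullback.lift_fst]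
  have hf'2 : f' ≫ vY = vX ≫ f := by
    rw [Category.assoc, Iso.inv_hom_id_assoc, pullback.lift_snd]
  haveI : IsIntegralHom vY := by
    haveI : IsIntegralHom (pullback.snd v QY.spec) := MorphismProperty.pullback_snd _ _ ‹_›
    infer_instance
  haveI : UniversallyInjective vY := by
    rw [MorphismProperty.cancel_left_of_respectsIso @UniversallyInjective]
    exact MorphismProperty.pullback_snd _ _ ‹_›
  haveI : Surjective vY := by
    haveI : Surjective (pullback.snd v QY.spec) := MorphismProperty.pullback_snd _ _ ‹_›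
    infer_instance
  haveI : IsIntegralHom vX := by
    haveI : IsIntegralHom (pullback.snd i QX.spec) := MorphismProperty.pullback_snd _ _ ‹_›
    infer_instance
  obtain ⟨φ', hφ'⟩ := Spec.map_surjective f'
  have hclosed : f' (closedPoint QX'.R) = closedPoint QY'.R := by
    apply vY.injective
    have hX : vX (closedPoint QX'.R) = closedPoint RX := closedPoint_of_isClosed (by
      rw [← Set.image_singleton]
      exact vX.isClosedMap _ (IsLocalRing.isClosed_singleton_closedPoint QX'.R))
    have hY : vY (closedPoint QY'.R) = closedPoint RY := closedPoint_of_isClosed (by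
      rw [← Set.image_singleton]
      exact vY.isClosedMap _ (IsLocalRing.isClosed_singleton_closedPoint QY'.R))
    rw [← Scheme.Hom.comp_apply, hf'2, Scheme.Hom.comp_apply, hX, hY]
    exact IsLocalRing.comap_closedPoint (algebraMap RY RX)
  haveI hl : IsLocalHom φ'.hom :=
    (IsLocalRing.local_hom_TFAE φ'.hom).out 4 0 |>.mp (by
      rw [← hφ'] at hclosed
      exact congrArg PrimeSpectrum.asIdeal hclosed)
  letI : Algebra QY'.R QX'.R := φ'.hom.toAlgebra
  haveI : IsLocalHom (algebraMap QY'.R QX'.R) := hl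
  have hφ : Spec.map (CommRingCat.ofHom (algebraMap QY'.R QX'.R)) ≫ QY'.spec = QX'.spec ≫ g' := by
    rw [← hf'1, ← hφ']
    rfl
  refine EtShLib.isZeroAcyclic_of_connected f (fun T t => ?_) fun Ω _ _ s => ?_
  · let t' : pullback vY t ⟶ Spec (CommRingCat.of QY'.R) := pullback.fst vY t
    let q := pullback.snd vY t
    haveI : IsIntegralHom q := MorphismProperty.pullback_snd _ _ ‹_›
    haveI : Surjective q := MorphismProperty.pullback_snd _ _ ‹_›
    have hq : Topology.IsQuotientMap q := q.isClosedMap.isQuotientMap q.continuous q.surjective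
    have hp' : Topology.IsQuotientMap (pullback.snd f' t') := by
      rw [← hφ']
      exact EtShSep.isQuotientMap_strict g' hg' QX' QY' (algebraMap QY'.R QX'.R) hφ _ t'
    let m : pullback f' t' ⟶ pullback f t := pullback.lift (pullback.fst f' t' ≫ vX) (pullback.snd f' t' ≫ q) (by
      rw [Category.assoc, ← hf'2, pullback.condition_assoc, pullback.condition, Category.assoc])
    have e : ⇑(pullback.snd f t) ∘ ⇑m = ⇑q ∘ ⇑(pullback.snd f' t') := by
      funext z
      simp only [Function.comp_apply, ← Scheme.Hom.comp_apply, m, pullback.lift_snd]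
    refine Topology.IsQuotientMap.of_comp m.continuous (pullback.snd f t).continuous ?_
    rw [e]
    exact hq.comp hp'
  · obtain ⟨s', hs'⟩ := exists_geom_lift vY s
    obtain ⟨ψ, hψ⟩ := Spec.map_surjective s'
    letI : Algebra QY'.R Ω := ψ.hom.toAlgebra
    haveI := EtShSep.connectedSpace_tensor_uloc g' hg' QX' QY' hφ Ω
    haveI : ConnectedSpace ↥(pullback f' s') := by
      rw [← hψ, ← hφ']
      exact (pullbackSpecIso QY'.R QX'.R Ω).hom.homeomorph.connectedSpace_iff.mpr
        (inferInstanceAs (ConnectedSpace (PrimeSpectrum (QX'.R ⊗[QY'.R] Ω))))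
    let m : pullback f' s' ⟶ pullback f s := pullback.lift (pullback.fst f' s' ≫ vX) (pullback.snd f' s') (by
      rw [Category.assoc, ← hf'2, pullback.condition_assoc, hs'])
    refine Function.Surjective.connectedSpace (f := m) (fun z => ?_) m.continuous
    let P := pullback f s
    let ζ : Spec (CommRingCat.of (AlgebraicClosure (P.residueField z))) ⟶ P :=
      Spec.map (CommRingCat.ofHom (algebraMap (P.residueField z) (AlgebraicClosure (P.residueField z)))) ≫
        P.fromSpecResidueField z
    have hζ : ζ (default : Spec (CommRingCat.of (AlgebraicClosure (P.residueField z)))) = z :=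
      (Scheme.Hom.comp_apply _ _ _).trans (Scheme.fromSpecResidueField_apply _ _)
    obtain ⟨a, ha⟩ := exists_geom_lift vX (ζ ≫ pullback.fst f s)
    have hinj : Function.Injective (fun k : Spec (CommRingCat.of (AlgebraicClosure (P.residueField z))) ⟶ _ => k ≫ vY) :=
      ((tfae_universallyInjective vY).out 0 1 (a := UniversallyInjective vY)
        (b := ∀ (K : Type u) [Field K], Function.Injective fun g : Spec (.of K) ⟶ _ => g ≫ vY)).mp
          inferInstance _
    have he : a ≫ f' = (ζ ≫ pullback.snd f s) ≫ s' := hinj (by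
      change (a ≫ f') ≫ vY = ((ζ ≫ pullback.snd f s) ≫ s') ≫ vY
      calc (a ≫ f') ≫ vY = (a ≫ vX) ≫ f :=
            (Category.assoc _ _ _).trans ((congrArg (a ≫ ·) hf'2).trans (Category.assoc _ _ _).symm)
        _ = ζ ≫ (pullback.fst f s ≫ f) := (congrArg (· ≫ f) ha).trans (Category.assoc _ _ _)
        _ = (ζ ≫ pullback.snd f s) ≫ (s' ≫ vY) :=
            (congrArg (ζ ≫ ·) pullback.condition).trans
              ((Category.assoc _ _ _).symm.trans (congrArg ((ζ ≫ pullback.snd f s) ≫ ·) hs'.symm))
        _ = _ := (Category.assoc _ _ _).symm)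
    refine ⟨(pullback.lift a (ζ ≫ pullback.snd f s) he) default, ?_⟩
    have hm : pullback.lift a (ζ ≫ pullback.snd f s) he ≫ m = ζ := by
      apply pullback.hom_ext
      · simp only [m, Category.assoc, pullback.lift_fst, pullback.lift_fst_assoc, ha]
      · simp only [m, Category.assoc, pullback.lift_snd]
    rw [← Scheme.Hom.comp_apply, hm, hζ]

/-- **Transfer**: universal local 0-acyclicity descends along universal homeomorphisms of source and base -/
theorem isULocZeroAcyclic_transfer (i : X' ⟶ X) (v : S' ⟶ S) [IsIntegralHom i] [UniversallyInjective i] [Surjective i]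
    [IsIntegralHom v] [UniversallyInjective v] [Surjective v] (w : i ≫ g = g' ≫ v)
    (hg' : EtAcyc.IsULocZeroAcyclic g') : EtAcyc.IsULocZeroAcyclic g := by
  intro X₁ S₁ g₁ b' b h
  let q := pullback.fst v b
  let v₁ := pullback.snd v b
  let g₁' := pullback.snd g' q
  haveI : IsIntegralHom v₁ := MorphismProperty.pullback_snd _ _ ‹_›
  haveI : UniversallyInjective v₁ := MorphismProperty.pullback_snd _ _ ‹_›
  haveI : Surjective v₁ := MorphismProperty.pullback_snd _ _ ‹_›
  have hbig : IsPullback (pullback.fst g' q) (g₁' ≫ v₁) (g' ≫ v) b :=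
    (IsPullback.of_hasPullback g' q).paste_vert (IsPullback.of_hasPullback v b)
  rw [← w] at hbig
  let i₁ : pullback g' q ⟶ X₁ := h.lift (pullback.fst g' q ≫ i) (g₁' ≫ v₁) (by
    rw [Category.assoc]; exact hbig.w)
  have hi₁ : IsPullback (pullback.fst g' q) i₁ i b' :=
    IsPullback.of_bot (by rw [h.lift_snd]; exact hbig) (h.lift_fst _ _ _).symm h
  haveI : IsIntegralHom i₁ := MorphismProperty.of_isPullback (P := @IsIntegralHom) hi₁ inferInstance
  haveI : UniversallyInjective i₁ := MorphismProperty.of_isPullback (P := @UniversallyInjective) hi₁ inferInstance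
  haveI : Surjective i₁ := MorphismProperty.of_isPullback (P := @Surjective) hi₁ inferInstance
  refine isLocZeroAcyclic_transfer i₁ v₁ (h.lift_snd _ _ _) fun X₂ S₂ g₂ c' c hc => ?_
  exact hg' g₂ (c' ≫ pullback.fst g' q) (c ≫ q) (hc.paste_horiz (IsPullback.of_hasPullback g' q))

end Transfer

end Groth.Agent.GenULoc
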