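import Groth.Agent.GenULoc.Main
import Mathlib

/-!
Milnor fibres of universally locally 0-acyclic morphisms are connected.
-/

set_option autoImplicit false
set_option backward.isDefEq.respectTransparency false
set_option backward.isDefEq.respectTransparency.types false
set_option maxHeartbeats 1000000
set_option linter.style.haveILetI false

universe u

open CategoryTheory CategoryTheory.Limits AlgebraicGeometry
open scoped TensorProduct

noncomputable section

namespace Groth.Agent.GenULoc

/-- geometric fibres of strict localisations of universally locally 0-acyclic morphisms are connected -/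
theorem connectedSpace_strict_fibre {X Y : Scheme.{u}} (g : X ⟶ Y) (hg : EtAcyc.IsULocZeroAcyclic g) {x : X}
    (QX : EtBCQ.SH X x) {y : Y} (QY : EtBCQ.SH Y y) (φ : QY.R →+* QX.R) [hl : IsLocalHom φ]
    (hφ : Spec.map (CommRingCat.ofHom φ) ≫ QY.spec = QX.spec ≫ g)
    (Ω : Type u) [Field Ω] (s : Spec (CommRingCat.of Ω) ⟶ Spec (CommRingCat.of QY.R)) :
    ConnectedSpace ↥(pullback (Spec.map (CommRingCat.ofHom φ)) s) := by
  let Ω' := AlgebraicClosure Ω
  let e : Spec (CommRingCat.of Ω') ⟶ Spec (CommRingCat.of Ω) := Spec.map (CommRingCat.ofHom (algebraMap Ω Ω'))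
  obtain ⟨ψ, hψ⟩ := Spec.map_surjective (e ≫ s)
  letI : Algebra QY.R QX.R := φ.toAlgebra
  haveI : IsLocalHom (algebraMap QY.R QX.R) := hl
  letI : Algebra QY.R Ω' := ψ.hom.toAlgebra
  haveI := EtShSep.connectedSpace_tensor_uloc g hg QX QY hφ Ω'
  let f := Spec.map (CommRingCat.ofHom φ)
  haveI : ConnectedSpace ↥(pullback f (e ≫ s)) := by
    rw [← hψ]
    exact (pullbackSpecIso QY.R QX.R Ω').hom.homeomorph.connectedSpace_iff.mpr
      (inferInstanceAs (ConnectedSpace (PrimeSpectrum (QX.R ⊗[QY.R] Ω'))))
  let m := pullback.map f (e ≫ s) f s (𝟙 _) e (𝟙 _) (by simp) (by simp)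
  haveI : Surjective e := Groth.Agent.GrpField.PointBase.surj _ e
  haveI : Surjective m := by
    have hm : IsPullback m (pullback.snd f (e ≫ s)) (pullback.snd f s) e := by
      refine IsPullback.of_right ?_ (by simp [m]) (IsPullback.of_hasPullback f s)
      rw [show m ≫ pullback.fst f s = pullback.fst f (e ≫ s) by simp [m]]
      exact IsPullback.of_hasPullback f (e ≫ s)
    exact MorphismProperty.of_isPullback (P := @Surjective) hm.flip inferInstance
  exact m.surjective.connectedSpace m.continuous

end Groth.Agent.GenULoc
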