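import Mathlib

/-!
Finite radicial models of finite purely inseparable extensions of a fraction field.
-/

set_option autoImplicit false
set_option linter.style.haveILetI false

universe u

open CategoryTheory AlgebraicGeometry

namespace Groth.Agent.GenULoc

/-- a finite purely inseparable extension of the fraction field has a finite radicial model over the domain -/
theorem exists_radicial_model (A : Type u) [CommRing A] [IsDomain A] (K L : Type u) [Field K] [Field L]
    [Algebra A K] [IsFractionRing A K] [Algebra K L] [Algebra A L] [IsScalarTower A K L]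
    [IsPurelyInseparable K L] [FiniteDimensional K L] :
    ∃ (B : Subalgebra A L), Module.Finite A B ∧ IsFractionRing B L ∧
      UniversallyInjective (Spec.map (CommRingCat.ofHom (algebraMap A B))) ∧
      Surjective (Spec.map (CommRingCat.ofHom (algebraMap A B))) := by
  classical
  obtain ⟨q, hqA⟩ := ExpChar.exists A
  haveI := hqA
  haveI : ExpChar K q := expChar_of_injective_ringHom (IsFractionRing.injective A K) q
  haveI : ExpChar L q := expChar_of_injective_ringHom (algebraMap K L).injective q
  have hinj : Function.Injective (algebraMap A L) := by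
    rw [IsScalarTower.algebraMap_eq A K L]
    exact (algebraMap K L).injective.comp (IsFractionRing.injective A K)
  let bs := Module.finBasis K L
  have hex : ∀ i, ∃ (n : ℕ) (s : A), s ≠ 0 ∧ (algebraMap A L s * bs i) ^ q ^ n ∈ (algebraMap A L).range := by
    intro i
    obtain ⟨n, c, hc⟩ := IsPurelyInseparable.pow_mem K q (bs i)
    obtain ⟨a, s, hs, rfl⟩ := IsFractionRing.div_surjective A c
    have hs0 : s ≠ 0 := nonZeroDivisors.ne_zero hs
    have hsK : algebraMap A K s ≠ 0 := fun h => hs0 (IsFractionRing.injective A K (by rw [h, map_zero]))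
    obtain ⟨k, hk⟩ : ∃ k, q ^ n = k + 1 := ⟨q ^ n - 1, by
      have := expChar_pos K q
      have := pow_pos this n
      omega⟩
    refine ⟨n, s, hs0, a * s ^ k, ?_⟩
    rw [mul_pow, ← hc, IsScalarTower.algebraMap_apply A K L (a * s ^ k),
      IsScalarTower.algebraMap_apply A K L s, ← map_pow (algebraMap K L), ← map_mul (algebraMap K L), hk]
    refine congrArg (algebraMap K L) ?_
    rw [map_mul, map_pow, pow_succ]
    field_simp
  choose n s hs hmem using hex
  let b : Fin (Module.finrank K L) → L := fun i => algebraMap A L (s i) * bs i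
  let B : Subalgebra A L := Algebra.adjoin A (Set.range b)
  have hint : ∀ x ∈ Set.range b, IsIntegral A x := by
    rintro _ ⟨i, rfl⟩
    obtain ⟨a, ha⟩ := hmem i
    refine IsIntegral.of_pow (pow_pos (expChar_pos K q) (n i)) ?_
    rw [← ha]
    exact isIntegral_algebraMap
  have hfin : Module.Finite A B := Module.Finite.iff_fg.mpr
    (fg_adjoin_of_finite (Set.finite_range b) hint)
  have hpow : ∀ z ∈ B, ∃ m : ℕ, z ^ q ^ m ∈ (algebraMap A L).range := by
    intro z hz
    induction hz using Algebra.adjoin_induction with
    | mem x hx => obtain ⟨i, rfl⟩ := hx; exact ⟨n i, hmem i⟩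
    | algebraMap r => exact ⟨0, r, by simp⟩
    | add x y _ _ hx hy =>
      obtain ⟨m₁, h₁⟩ := hx
      obtain ⟨m₂, h₂⟩ := hy
      refine ⟨m₁ + m₂, ?_⟩
      rw [add_pow_expChar_pow]
      refine add_mem ?_ ?_
      · rw [pow_add, pow_mul]; exact pow_mem h₁ _
      · rw [pow_add, mul_comm, pow_mul]; exact pow_mem h₂ _
    | mul x y _ _ hx hy =>
      obtain ⟨m₁, h₁⟩ := hx
      obtain ⟨m₂, h₂⟩ := hy
      refine ⟨m₁ + m₂, ?_⟩
      rw [mul_pow]
      refine mul_mem ?_ ?_
      · rw [pow_add, pow_mul]; exact pow_mem h₁ _
      · rw [pow_add, mul_comm, pow_mul]; exact pow_mem h₂ _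
  refine ⟨B, hfin, ?_, ?_, ?_⟩
  · refine IsFractionRing.of_field B L fun z => ?_
    -- clear denominators in the coordinates
    let f : Fin (Module.finrank K L) → K := fun i => bs.repr z i / algebraMap A K (s i)
    obtain ⟨⟨d, hd⟩, hd'⟩ := IsLocalization.exist_integer_multiples (nonZeroDivisors A) Finset.univ f
    choose a ha using fun i => hd' i (Finset.mem_univ i)
    let x : B := ∑ i, algebraMap A B (a i) * ⟨b i, Algebra.subset_adjoin ⟨i, rfl⟩⟩
    refine ⟨x, algebraMap A B d, ?_⟩
    rw [← IsScalarTower.algebraMap_apply A B L]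
    have hd0 : algebraMap A L d ≠ 0 := fun h => nonZeroDivisors.ne_zero hd (hinj (by rw [h, map_zero]))
    rw [eq_div_iff hd0]
    have e : ∀ i, algebraMap A L (a i) * b i = algebraMap A L d * (bs.repr z i • bs i) := by
      intro i
      have hsK : algebraMap A K (s i) ≠ 0 := fun h => hs i (IsFractionRing.injective A K (by rw [h, map_zero]))
      simp only [b, IsScalarTower.algebraMap_apply A K L, ha i, Algebra.smul_def]
      simp only [← map_mul, ← mul_assoc]
      refine congrArg (· * bs i) (congrArg (algebraMap K L) ?_)
      simp only [f]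
      field_simp
    have hx : (x : L) = ∑ i, algebraMap A L (a i) * b i := by
      simp [x]
    change _ = algebraMap B L x
    rw [show algebraMap B L x = (x : L) from rfl, hx]
    simp only [e, ← Finset.mul_sum, bs.sum_repr]
    ring
  · rw [(tfae_universallyInjective _).out 0 1 rfl rfl]
    intro F _ g₁ g₂ hg
    obtain ⟨α, rfl⟩ := Spec.map_surjective g₁
    obtain ⟨β, rfl⟩ := Spec.map_surjective g₂
    simp only [← Spec.map_comp] at hg
    have hg' := congrArg CommRingCat.Hom.hom (Spec.map_injective hg)
    refine congrArg Spec.map (CommRingCat.hom_ext (RingHom.ext fun z => ?_))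
    obtain ⟨m, a, ha⟩ := hpow (z : L) z.2
    have hz : z ^ q ^ m = algebraMap A B a := Subtype.ext ha.symm
    have h1 := RingHom.congr_fun hg' a
    change α.hom (algebraMap A B a) = β.hom (algebraMap A B a) at h1
    rw [← hz, map_pow, map_pow] at h1
    cases hqA with
    | zero => simpa using h1
    | prime hp =>
      haveI := Fact.mk hp
      have h0 : (q : F) = 0 := by
        have := congrArg (α.hom.comp (algebraMap A B)) (CharP.cast_eq_zero A q)
        rwa [map_natCast, map_zero] at this
      haveI : CharP F q := (CharP.charP_iff_prime_eq_zero hp).2 h0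
      haveI : ExpChar F q := ExpChar.prime hp
      exact iterateFrobenius_inj F q m h1
  · haveI : Algebra.IsIntegral A B := Algebra.IsIntegral.of_finite A B
    haveI : FaithfulSMul A B := (faithfulSMul_iff_algebraMap_injective A B).2
      fun x y h => hinj (congrArg Subtype.val h)
    exact ⟨Algebra.IsIntegral.comap_surjective A B⟩

end Groth.Agent.GenULoc
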