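import Groth.Agent.GenULoc.Transfer
import Groth.Agent.GenULoc.PIExt
import Groth.Agent.EtShSep.LocAcyclic
import Groth.Agent.GeomProp.NilReduced
import Groth.Agent.GeomRedSpread.Constructible
import Groth.Agent.GenFree.Scheme
import Groth.Agent.SpQS.BiratBC
import Groth.Agent.RedSepLib.Basic
import Mathlib

/-!
Generic universal local 0-acyclicity over an affine integral base.
-/

set_option autoImplicit false
set_option backward.isDefEq.respectTransparency false
set_option backward.isDefEq.respectTransparency.types false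
set_option maxHeartbeats 1000000
set_option linter.style.haveILetI false

universe u

open CategoryTheory CategoryTheory.Limits AlgebraicGeometry

noncomputable section

namespace Groth.Agent.GenULoc

/-- a reduced closed subscheme with full support is the reduction -/
theorem exists_iso_nilradical {R Z : Scheme.{u}} [IsReduced R] (h : R ⟶ Z) [IsClosedImmersion h] [Surjective h] :
    ∃ e : R ≅ Z.nilradical.subscheme, e.hom ≫ Z.nilradical.subschemeι = h := by
  haveI := RedSepLib.isReduced_subscheme_nilradical Z
  obtain ⟨a, ha⟩ := RedSepLib.exists_lift_of_isReduced h Z.nilradical.subschemeι (by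
    rw [Scheme.IdealSheafData.range_subschemeι, Scheme.support_nilradical]
    exact fun _ _ => trivial)
  obtain ⟨b, hb⟩ := RedSepLib.exists_lift_of_isReduced Z.nilradical.subschemeι h (by
    rw [Function.Surjective.range_eq h.surjective]
    exact Set.subset_univ _)
  refine ⟨⟨a, b, ?_, ?_⟩, ha⟩
  · rw [← cancel_mono h, Category.assoc, hb, ha, Category.id_comp]
  · rw [← cancel_mono Z.nilradical.subschemeι, Category.assoc, ha, hb, Category.id_comp]

/-- pullback of a reduced scheme along a flat preimmersion is reduced -/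
theorem isReduced_of_flat_preimmersion {A B : Scheme.{u}} (f : A ⟶ B) [Flat f] [IsPreimmersion f] [IsReduced B] :
    IsReduced A := by
  haveI : ∀ x : A, _root_.IsReduced (A.presheaf.stalk x) := fun x => by
    haveI := SpQS.isIso_stalkMap_of_flat_preimmersion f x
    exact isReduced_of_injective (inv (f.stalkMap x)).hom
      (ConcreteCategory.bijective_of_isIso (inv (f.stalkMap x))).1
  exact isReduced_of_isReduced_stalk A

/-- fibres of a morphism with geometrically reduced fibres over fields -/
theorem isReduced_pullback_field {X Y : Scheme.{u}} (g : X ⟶ Y)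
    (h : ∀ y, GeometricallyReduced (g.fiberToSpecResidueField y)) (K : Type u) [Field K]
    (k : Spec (CommRingCat.of K) ⟶ Y) : AlgebraicGeometry.IsReduced (pullback g k) := by
  haveI := (GeomRedSpread.geometricallyReduced_iff_forall_fiber g).mpr h
  exact (geometricallyReduced_iff g).mp ‹_› k _ _ (IsPullback.of_hasPullback g k)

/-- the universally locally 0-acyclic opens of the base -/
def IsGood {X S : Scheme.{u}} (a : X ⟶ S) (U : S.Opens) : Prop :=
  EtAcyc.IsULocZeroAcyclic (a ∣_ U)

/-- generic universal local 0-acyclicity over an affine integral base -/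
theorem exists_good_affine (A : Type u) [CommRing A] [IsDomain A] [IsNoetherianRing A] {X : Scheme.{u}}
    (a : X ⟶ Spec (CommRingCat.of A)) [LocallyOfFiniteType a] [QuasiCompact a] :
    ∃ U : (Spec (CommRingCat.of A)).Opens, (U : Set (Spec (CommRingCat.of A))).Nonempty ∧ IsGood a U := by
  classical
  let K := FractionRing A
  let η : Spec (CommRingCat.of K) ⟶ Spec (CommRingCat.of A) := Spec.map (CommRingCat.ofHom (algebraMap A K))
  let XK := pullback a η
  letI : XK.Over (Spec (CommRingCat.of K)) := ⟨pullback.snd a η⟩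
  haveI : LocallyOfFiniteType (XK ↘ Spec (CommRingCat.of K)) :=
    inferInstanceAs (LocallyOfFiniteType (pullback.snd a η))
  haveI : CompactSpace XK := QuasiCompact.compactSpace_of_compactSpace (pullback.snd a η)
  haveI : IsLocallyNoetherian XK := LocallyOfFiniteType.isLocallyNoetherian (pullback.snd a η)
  haveI : IsNoetherian XK := {}
  obtain ⟨L, _, _, hfin, hpi, hgr⟩ := GeomProp.exists_pi_geometricallyReduced K XK
    TopologicalSpace.NoetherianSpace.finite_irreducibleComponents
  haveI := hfin
  haveI := hpi
  letI : Algebra A L := ((algebraMap K L).comp (algebraMap A K)).toAlgebra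
  haveI : IsScalarTower A K L := IsScalarTower.of_algebraMap_eq fun _ => rfl
  obtain ⟨B, hBfin, hBfr, hBui, hBsurj⟩ := exists_radicial_model A K L
  let w : Spec (CommRingCat.of B) ⟶ Spec (CommRingCat.of A) := Spec.map (CommRingCat.ofHom (algebraMap A B))
  haveI : IsIntegralHom w := IsIntegralHom.SpecMap_iff.mpr
    (algebraMap_isIntegral_iff.mpr (Algebra.IsIntegral.of_finite A B))
  haveI : UniversallyInjective w := hBui
  haveI : Surjective w := hBsurj
  haveI : IsNoetherianRing B := isNoetherian_of_tower A (inferInstance : _root_.IsNoetherian A B)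
  haveI : LocallyOfFiniteType w := by
    rw [HasRingHomProperty.Spec_iff (P := @LocallyOfFiniteType)]
    exact RingHom.finiteType_algebraMap.mpr inferInstance
  let X' := pullback a w
  let R := X'.nilradical.subscheme
  let ι : R ⟶ X' := X'.nilradical.subschemeι
  haveI : IsReduced R := RedSepLib.isReduced_subscheme_nilradical X'
  haveI : Surjective ι := ⟨fun x => by
    have : x ∈ Set.range ι := by
      rw [Scheme.IdealSheafData.range_subschemeι, Scheme.support_nilradical]; trivial
    exact this⟩
  let g : R ⟶ Spec (CommRingCat.of B) := ι ≫ pullback.snd a w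
  haveI : IsLocallyNoetherian (Spec (CommRingCat.of B)) := inferInstance
  haveI : LocallyOfFiniteType g := inferInstance
  haveI : QuasiCompact g := inferInstance
  haveI : LocallyOfFinitePresentation g := inferInstance
  -- the generic fibre
  let η' : Spec (CommRingCat.of L) ⟶ Spec (CommRingCat.of B) := Spec.map (CommRingCat.ofHom (algebraMap B L))
  haveI : Flat η' := by
    rw [HasRingHomProperty.Spec_iff (P := @Flat)]
    exact RingHom.flat_algebraMap_iff.mpr (IsLocalization.flat L (nonZeroDivisors B))
  haveI : IsPreimmersion η' := IsPreimmersion.of_isLocalization (nonZeroDivisors B)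
  haveI : IsPreimmersion (pullback.fst g η') := MorphismProperty.pullback_fst _ _ ‹_›
  haveI : Flat (pullback.fst g η') := inferInstance
  haveI : IsReduced (pullback g η') := isReduced_of_flat_preimmersion (pullback.fst g η')
  let e : Spec (CommRingCat.of L) ⟶ Spec (CommRingCat.of K) := Spec.map (CommRingCat.ofHom (algebraMap K L))
  have hee : e ≫ η = η' ≫ w := by
    simp only [e, η, η', w, ← Spec.map_comp]
    rfl
  let Z := Curv2.bc K XK L
  let h : pullback g η' ⟶ Z := pullback.lift
    (pullback.lift (pullback.fst g η' ≫ ι ≫ pullback.fst a w) (pullback.snd g η' ≫ e) (by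
      rw [Category.assoc, Category.assoc, pullback.condition, Category.assoc, hee, ← pullback.condition_assoc]
      simp only [g, Category.assoc]))
    (pullback.snd g η') (pullback.lift_snd _ _ _)
  have hP1 : IsPullback (Curv2.bcFst K XK L ≫ pullback.fst a η) (Curv2.bcSnd K XK L) a (η' ≫ w) := by
    rw [← hee]
    exact (IsPullback.of_hasPullback (pullback.snd a η) e).paste_horiz (IsPullback.of_hasPullback a η)
  let j : Z ⟶ X' := pullback.lift (Curv2.bcFst K XK L ≫ pullback.fst a η) (Curv2.bcSnd K XK L ≫ η') (by
    rw [hP1.w, Category.assoc])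
  have hj : IsPullback j (Curv2.bcSnd K XK L) (pullback.snd a w) η' :=
    IsPullback.of_right (by rw [pullback.lift_fst]; exact hP1) (pullback.lift_snd _ _ _)
      (IsPullback.of_hasPullback a w)
  have hh : IsPullback (pullback.fst g η') h ι j := by
    refine IsPullback.of_bot (t := hj) ?_ ?_
    · rw [pullback.lift_snd]
      exact IsPullback.of_hasPullback g η'
    · apply pullback.hom_ext
      · simp [h, j, pullback.lift_fst_assoc]
      · simp only [h, j, Category.assoc, pullback.lift_snd, pullback.lift_snd_assoc]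
        exact pullback.condition
  haveI : IsClosedImmersion h := MorphismProperty.of_isPullback (P := @IsClosedImmersion) hh inferInstance
  haveI : Surjective h := MorphismProperty.of_isPullback (P := @Surjective) hh inferInstance
  obtain ⟨iso, hiso⟩ := exists_iso_nilradical h
  haveI hgen : GeometricallyReduced (pullback.snd g η') := by
    have : pullback.snd g η' = iso.hom ≫ Z.nilradical.subschemeι ≫ Curv2.bcSnd K XK L := by
      rw [← Category.assoc, hiso, pullback.lift_snd]
    rw [this]
    exact (MorphismProperty.cancel_left_of_respectsIso @GeometricallyReduced iso.hom _).mpr hgr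
  -- spreading out
  let pt : Spec (CommRingCat.of B) := η' default
  have hpt : GeometricallyReduced (g.fiberToSpecResidueField pt) :=
    (GeomRedSpread.fiber_baseChange_iff (IsPullback.of_hasPullback g η') default).mp
      ((GeomRedSpread.geometricallyReduced_iff_forall_fiber _).mp hgen _)
  have hgenpt : ∀ y : Spec (CommRingCat.of B), pt ⤳ y := by
    intro y
    refine (PrimeSpectrum.le_iff_specializes _ _).mp ?_
    intro z hz
    replace hz : algebraMap B L z ∈ (default : Spec (CommRingCat.of L)).asIdeal := hz
    have hz0 : algebraMap B L z = 0 := by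
      by_contra hne
      exact (default : Spec (CommRingCat.of L)).isPrime.ne_top (Ideal.eq_top_of_isUnit_mem _ hz (Ne.isUnit hne))
    rw [IsFractionRing.injective B L (hz0.trans (map_zero _).symm)]
    exact zero_mem _
  let C : Set (Spec (CommRingCat.of B)) := {y | GeometricallyReduced (g.fiberToSpecResidueField y)}
  have hptmem : ∀ W : Set (Spec (CommRingCat.of B)), IsOpen W → W.Nonempty → pt ∈ W :=
    fun W hW ⟨y, hy⟩ => (hgenpt y).mem_open hW hy
  obtain ⟨O, -, hO, hOne, hOC⟩ := GrpField.exists_isOpen_inter_closure_subset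
    (GeomRedSpread.isLocallyConstructible g) isOpen_univ ⟨pt, trivial, hpt⟩
  have hclC : ∀ y, y ∈ closure C := fun y =>
    closure_mono (Set.singleton_subset_iff.2 (show pt ∈ C from hpt)) ((hgenpt y).mem_closure)
  obtain ⟨U₁, hU₁, hflat, -⟩ := GenFree.exists_dense_flat_fp g
  let O' : (Spec (CommRingCat.of B)).Opens := ⟨O, hO⟩ ⊓ U₁
  have hO' : pt ∈ O' := ⟨hptmem O hO (hOne.mono Set.inter_subset_left),
    hptmem U₁ U₁.2 ⟨_, (hU₁.exists_mem_open hO (hOne.mono Set.inter_subset_left)).choose_spec.1⟩⟩
  have hcl : IsClosed (w '' (O' : Set (Spec (CommRingCat.of B)))ᶜ) := w.isClosedMap _ O'.2.isClosed_compl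
  let U : (Spec (CommRingCat.of A)).Opens := ⟨_, hcl.isOpen_compl⟩
  have hwU : w ⁻¹ᵁ U = O' := by
    ext y
    change w y ∉ w '' (O' : Set (Spec (CommRingCat.of B)))ᶜ ↔ y ∈ O'
    rw [w.injective.mem_set_image, Set.mem_compl_iff, not_not]
    rfl
  refine ⟨U, ⟨w pt, ?_⟩, ?_⟩
  · change pt ∈ w ⁻¹ᵁ U
    rwa [hwU]
  let iR : R ⟶ X := ι ≫ pullback.fst a w
  haveI : IsIntegralHom iR := inferInstance
  haveI : UniversallyInjective iR := MorphismProperty.comp_mem _ _ _
    (inferInstanceAs (UniversallyInjective ι)) (MorphismProperty.pullback_fst _ _ hBui)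
  haveI : Surjective iR := inferInstance
  have hsq : iR ≫ a = g ≫ w := by simp only [iR, g, Category.assoc, pullback.condition]
  let g₀ := g ∣_ (w ⁻¹ᵁ U)
  have hop : g ⁻¹ᵁ (w ⁻¹ᵁ U) = iR ⁻¹ᵁ (a ⁻¹ᵁ U) := by
    rw [← Scheme.Hom.comp_preimage, ← Scheme.Hom.comp_preimage, hsq]
  let i := (R.isoOfEq hop).hom ≫ iR ∣_ (a ⁻¹ᵁ U)
  haveI : UniversallyInjective (iR ∣_ (a ⁻¹ᵁ U)) := IsZariskiLocalAtTarget.restrict ‹_› _
  haveI : UniversallyInjective (w ∣_ U) := IsZariskiLocalAtTarget.restrict hBui _
  haveI : UniversallyInjective i := (MorphismProperty.cancel_left_of_respectsIso @UniversallyInjective _ _).mpr ‹_›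
  haveI : IsIntegralHom (iR ∣_ (a ⁻¹ᵁ U)) := IsZariskiLocalAtTarget.restrict ‹_› _
  haveI : IsIntegralHom (w ∣_ U) := IsZariskiLocalAtTarget.restrict ‹_› _
  haveI : IsIntegralHom i := inferInstance
  haveI : Surjective (iR ∣_ (a ⁻¹ᵁ U)) := IsZariskiLocalAtTarget.restrict ‹_› _
  haveI : Surjective (w ∣_ U) := IsZariskiLocalAtTarget.restrict ‹_› _
  haveI : Surjective i := inferInstance
  have hw : i ≫ a ∣_ U = g₀ ≫ w ∣_ U := by
    rw [← cancel_mono U.ι]
    simp only [i, g₀, Category.assoc, morphismRestrict_ι, morphismRestrict_ι_assoc, Scheme.isoOfEq_hom_ι_assoc, hsq]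
  refine isULocZeroAcyclic_transfer i (w ∣_ U) hw ?_
  haveI : IsReduced (w ⁻¹ᵁ U : Scheme.{u}) := isReduced_of_isOpenImmersion (w ⁻¹ᵁ U).ι
  haveI : Flat g₀ := by
    have h1 : (w ⁻¹ᵁ U) ≤ U₁ := by rw [hwU]; exact inf_le_right
    exact GenFree.restrict_of_le (P := @Flat) g h1 hflat
  refine EtShSep.isULocZeroAcyclic_sep g₀ (fun F _ k => isReduced_pullback_field g₀ (fun y => ?_) F k)
    (Or.inl inferInstance)
  refine (GeomRedSpread.fiber_baseChange_iff (isPullback_morphismRestrict g (w ⁻¹ᵁ U)).flip y).mpr ?_
  have hy : (y.1 : Spec (CommRingCat.of B)) ∈ O := by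
    have : y.1 ∈ O' := hwU ▸ y.2
    exact this.1
  exact hOC ⟨hclC _, hy⟩

end Groth.Agent.GenULoc
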